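/-
Going down in polynomial rings for quasi-finite algebras over geometrically unibranch rings (helper33).
-/
import Groth.Agent.UH.Unibranch
import Groth.Agent.EtStruct.Unibranch
import Mathlib.RingTheory.IntegralClosure.GoingDown
import Mathlib.RingTheory.Polynomial.IsIntegral
import Mathlib.RingTheory.Polynomial.UniqueFactorization
import Mathlib.RingTheory.ZariskisMainTheorem
import Mathlib.FieldTheory.IsAlgClosed.AlgebraicClosure

set_option autoImplicit false
universe u

attribute [local instance] MvPolynomial.algebraMvPolynomial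

namespace Groth.Agent.GUGoingDown

open Groth.Agent.EtStruct

/-- Polynomial rings over integrally closed domains are integrally closed. -/
theorem isIntegrallyClosed_mvPolynomial (R : Type u) [CommRing R] [IsDomain R] [IsIntegrallyClosed R]
    (σ : Type u) : IsIntegrallyClosed (MvPolynomial σ R) := by
  let K := FractionRing R
  have : IsIntegrallyClosed (MvPolynomial σ K) := UniqueFactorizationMonoid.instIsIntegrallyClosed
  suffices IsIntegrallyClosedIn (MvPolynomial σ R) (MvPolynomial σ K) from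
    .of_isIntegrallyClosed_of_isIntegrallyClosedIn _ (MvPolynomial σ K)
  refine isIntegrallyClosedIn_iff.mpr ⟨MvPolynomial.map_injective _ (IsFractionRing.injective R K), ?_⟩
  intro f hf
  have hc := MvPolynomial.isIntegral_iff_isIntegral_coeff.mp hf
  have : f ∈ Set.range (MvPolynomial.map (σ := σ) (algebraMap R K)) := by
    rw [MvPolynomial.mem_range_map_iff_coeffs_subset]
    intro c hc'
    obtain ⟨n, -, rfl⟩ := MvPolynomial.mem_coeffs_iff.mp hc'
    exact IsIntegrallyClosed.isIntegral_iff.mp (hc n)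
  exact this

/-- The reduction of a geometrically unibranch local ring is geometrically unibranch. -/
theorem isGeomUnibranch_red {R : Type u} [CommRing R] [IsLocalRing R] (h : CAlg2.IsGeomUnibranch R)
    [IsLocalRing (CAlg2.red R)] [IsDomain (CAlg2.red R)] : CAlg2.IsGeomUnibranch (CAlg2.red R) := by
  obtain ⟨⟨-, hloc⟩, hpi⟩ := h
  refine (isGeomUnibranch_iff (CAlg2.red R) (FractionRing (CAlg2.red R))).mpr ⟨hloc, ?_⟩
  refine PIResidue.map (f := (algebraMap (CAlg2.red R) (CAlg2.normRed R)).comp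
    (Ideal.Quotient.mk (nilradical R))) (RingEquiv.refl _) (fun a ↦ ⟨_, rfl⟩) ?_
  intro m _ x
  obtain ⟨n, a, ha⟩ := hpi m (Ideal.Quotient.mk m x)
  exact ⟨n, a, ha⟩

/-- The generic point below a geometrically unibranch point. -/
theorem exists_generic {A : Type u} [CommRing A] (y : Ideal A) [y.IsPrime]
    (h : CAlg2.IsGeomUnibranch (Localization.AtPrime y)) :
    ∃ (N : Ideal A) (_ : N.IsPrime) (hN : N ≤ y), (∀ p : Ideal A, p.IsPrime → p ≤ y → N ≤ p) ∧
      ∃ (R : Type u) (_ : CommRing R) (_ : Algebra (A ⧸ N) R) (_ : (y.map (Ideal.Quotient.mk N)).IsPrime)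
        (_ : IsLocalization.AtPrime R (y.map (Ideal.Quotient.mk N))) (_ : IsLocalRing R),
        CAlg2.IsGeomUnibranch R := by
  let R₀ := Localization.AtPrime y
  have hdom : IsDomain (CAlg2.red R₀) := h.1.1
  have hP : (nilradical R₀).IsPrime := (Ideal.Quotient.isDomain_iff_prime _).mp hdom
  let φ : A →+* CAlg2.red R₀ := (Ideal.Quotient.mk (nilradical R₀)).comp (algebraMap A R₀)
  let N : Ideal A := RingHom.ker φ
  have hNP : N.IsPrime := RingHom.ker_isPrime φ
  have hmem : ∀ a, a ∈ N ↔ algebraMap A R₀ a ∈ nilradical R₀ := fun a ↦ by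
    rw [RingHom.mem_ker]; exact Ideal.Quotient.eq_zero_iff_mem
  have hNy : N ≤ y := fun a ha ↦ by
    have := IsLocalRing.le_maximalIdeal hP.ne_top ((hmem a).mp ha)
    exact (IsLocalization.AtPrime.to_map_mem_maximal_iff R₀ y a).mp this
  have hle : ∀ p : Ideal A, p.IsPrime → p ≤ y → N ≤ p := fun p hp hpy a ha ↦ by
    have hd : Disjoint (y.primeCompl : Set A) p := Set.disjoint_left.mpr fun x hx hxp ↦ hx (hpy hxp)
    have hp' := IsLocalization.isPrime_of_isPrime_disjoint y.primeCompl R₀ p hp hd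
    have h1 : algebraMap A R₀ a ∈ p.map (algebraMap A R₀) := nilradical_le_prime _ ((hmem a).mp ha)
    have h2 := IsLocalization.comap_map_of_isPrime_disjoint y.primeCompl R₀ hp hd
    exact h2.le h1
  let y' := y.map (Ideal.Quotient.mk N)
  have hy' : y'.IsPrime := Ideal.map_isPrime_of_surjective Ideal.Quotient.mk_surjective (by rwa [Ideal.mk_ker])
  let ψ : A ⧸ N →+* CAlg2.red R₀ := Ideal.Quotient.lift N φ fun a ha ↦ ha
  let _ : Algebra (A ⧸ N) (CAlg2.red R₀) := ψ.toAlgebra
  have hcomap : ∀ a, Ideal.Quotient.mk N a ∈ y' ↔ a ∈ y := fun a ↦ by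
    rw [Ideal.mem_quotient_iff_mem hNy]
  have hloc : IsLocalization.AtPrime (CAlg2.red R₀) y' := by
    refine ⟨⟨?_, fun z ↦ ?_, fun {a b} hab ↦ ⟨1, ?_⟩⟩⟩
    · rintro ⟨s, hs⟩
      obtain ⟨a, rfl⟩ := Ideal.Quotient.mk_surjective s
      exact (IsLocalization.map_units R₀ (⟨a, fun ha ↦ hs ((hcomap a).mpr ha)⟩ : y.primeCompl)).map
        (Ideal.Quotient.mk (nilradical R₀))
    · obtain ⟨z, rfl⟩ := Ideal.Quotient.mk_surjective z
      obtain ⟨⟨a, s⟩, hs⟩ := IsLocalization.surj y.primeCompl z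
      refine ⟨⟨Ideal.Quotient.mk N a, Ideal.Quotient.mk N s, fun hh ↦ s.2 ((hcomap _).mp hh)⟩, ?_⟩
      change Ideal.Quotient.mk _ z * φ s = φ a
      change _ = Ideal.Quotient.mk _ (algebraMap A R₀ a)
      rw [← hs, map_mul]
      rfl
    · obtain ⟨a, rfl⟩ := Ideal.Quotient.mk_surjective a
      obtain ⟨b, rfl⟩ := Ideal.Quotient.mk_surjective b
      have hab' : φ a = φ b := hab
      have hker : a - b ∈ N := by rw [RingHom.mem_ker, map_sub, hab', sub_self]
      simpa using Ideal.Quotient.eq.mpr hker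
  have : IsLocalRing (CAlg2.red R₀) :=
    IsLocalRing.of_surjective' (Ideal.Quotient.mk (nilradical R₀)) Ideal.Quotient.mk_surjective
  exact ⟨N, hNP, hNy, hle, CAlg2.red R₀, inferInstance, inferInstance, hy', hloc, inferInstance,
    isGeomUnibranch_red h⟩

/-- Over a geometrically unibranch point, primes of `A'[σ]` are determined by their contraction. -/
theorem unique_prime {A : Type u} [CommRing A] [IsDomain A] (K : Type u) [Field K] [Algebra A K]
    [IsFractionRing A K] (y : Ideal A) [y.IsPrime] (R : Type u) [CommRing R] [Algebra A R]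
    [IsLocalization.AtPrime R y] [IsLocalRing R] (hR : CAlg2.IsGeomUnibranch R) (σ : Type u)
    (P₁ P₂ : Ideal (MvPolynomial σ (integralClosure A K))) [P₁.IsPrime] [P₂.IsPrime]
    (P : Ideal (MvPolynomial σ A)) [P.IsPrime] [P₁.LiesOver P] [P₂.LiesOver P]
    (hy : P.comap MvPolynomial.C = y) : P₁ = P₂ := by
  let A' := integralClosure A K
  let Ω := AlgebraicClosure (FractionRing (MvPolynomial σ A ⧸ P))
  have hΩ : FaithfulSMul (MvPolynomial σ A ⧸ P) Ω := by
    refine (faithfulSMul_iff_algebraMap_injective (MvPolynomial σ A ⧸ P) Ω).mpr ?_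
    rw [IsScalarTower.algebraMap_eq _ (FractionRing (MvPolynomial σ A ⧸ P)) Ω]
    exact (algebraMap (FractionRing (MvPolynomial σ A ⧸ P)) Ω).injective.comp
      (IsFractionRing.injective (MvPolynomial σ A ⧸ P) (FractionRing (MvPolynomial σ A ⧸ P)))
  have hE : ∀ (P' : Ideal (MvPolynomial σ A')) [P'.IsPrime] [P'.LiesOver P],
      ∃ G : MvPolynomial σ A' →+* Ω, RingHom.ker G = P' ∧
        ∀ f, G (MvPolynomial.map (algebraMap A A') f) = algebraMap _ Ω (Ideal.Quotient.mk P f) := by
    intro P' _ _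
    let lift : (MvPolynomial σ A' ⧸ P') →ₐ[MvPolynomial σ A ⧸ P] Ω :=
      IsAlgClosed.lift (R := MvPolynomial σ A ⧸ P) (S := MvPolynomial σ A' ⧸ P') (M := Ω)
    have hinj : Function.Injective lift := by
      refine (RingHom.injective_iff_ker_eq_bot lift.toRingHom).mpr ?_
      have : (RingHom.ker lift.toRingHom).IsPrime := RingHom.ker_isPrime _
      refine Ideal.eq_bot_of_comap_eq_bot (R := MvPolynomial σ A ⧸ P) (S := MvPolynomial σ A' ⧸ P') ?_
      refine eq_bot_iff.mpr fun z hz ↦ ?_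
      rw [Ideal.mem_comap, RingHom.mem_ker] at hz
      change lift (algebraMap _ _ z) = 0 at hz
      rw [AlgHom.commutes] at hz
      exact (FaithfulSMul.algebraMap_injective _ Ω (hz.trans (map_zero _).symm))
    refine ⟨lift.toRingHom.comp (Ideal.Quotient.mk P'), ?_, fun f ↦ ?_⟩
    · rw [RingHom.ker_comp_of_injective _ hinj, Ideal.mk_ker]
    · change lift (Ideal.Quotient.mk P' (algebraMap (MvPolynomial σ A) (MvPolynomial σ A') f)) = _
      exact lift.commutes (Ideal.Quotient.mk P f)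
  obtain ⟨G₁, hk₁, h₁⟩ := hE P₁
  obtain ⟨G₂, hk₂, h₂⟩ := hE P₂
  have hG : G₁ = G₂ := by
    refine MvPolynomial.ringHom_ext (fun a ↦ ?_) (fun i ↦ ?_)
    · refine RingHom.congr_fun (UH.eq_of_isGeomUnibranch K y hR (G₁.comp MvPolynomial.C) (G₂.comp MvPolynomial.C)
        (RingHom.ext fun x ↦ ?_) ?_) a
      · have e1 := h₁ (MvPolynomial.C x)
        have e2 := h₂ (MvPolynomial.C x)
        rw [MvPolynomial.map_C] at e1 e2
        exact e1.trans e2.symm
      · ext x
        rw [← hy, RingHom.mem_ker, Ideal.mem_comap]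
        have e1 := h₁ (MvPolynomial.C x)
        rw [MvPolynomial.map_C] at e1
        change G₁ (MvPolynomial.C (algebraMap A A' x)) = 0 ↔ _
        rw [e1, map_eq_zero_iff _ (FaithfulSMul.algebraMap_injective _ Ω), Ideal.Quotient.eq_zero_iff_mem]
    · have e1 := h₁ (MvPolynomial.X i)
      have e2 := h₂ (MvPolynomial.X i)
      rw [MvPolynomial.map_X] at e1 e2
      exact e1.trans e2.symm
  rw [← hk₁, ← hk₂, hG]

/-- The domain case: integral extensions of geometrically unibranch domains. -/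
theorem exists_prime_le_domain {A C : Type u} [CommRing A] [IsDomain A] [CommRing C] [IsDomain C]
    [Algebra A C] [Algebra.IsIntegral A C] (hinj : Function.Injective (algebraMap A C))
    (y : Ideal A) [y.IsPrime] (R : Type u) [CommRing R] [Algebra A R] [IsLocalization.AtPrime R y]
    [IsLocalRing R] (hR : CAlg2.IsGeomUnibranch R) (σ : Type u)
    (Q : Ideal (MvPolynomial σ C)) [Q.IsPrime]
    (hQy : (Q.comap (MvPolynomial.map (algebraMap A C))).comap MvPolynomial.C = y)
    (p : Ideal (MvPolynomial σ A)) [p.IsPrime] (hp : p ≤ Q.comap (MvPolynomial.map (algebraMap A C))) :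
    ∃ Q₁ : Ideal (MvPolynomial σ C), Q₁.IsPrime ∧ Q₁ ≤ Q ∧ Q₁.comap (MvPolynomial.map (algebraMap A C)) = p := by
  let K := FractionRing A
  let L := FractionRing C
  have hAL : Function.Injective (algebraMap A L) := by
    rw [IsScalarTower.algebraMap_eq A C L]; exact (IsFractionRing.injective C L).comp hinj
  let _ : Algebra K L := (IsFractionRing.lift hAL).toAlgebra
  have : IsScalarTower A K L := IsScalarTower.of_algebraMap_eq fun a ↦
    (IsFractionRing.lift_algebraMap hAL a).symm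
  let A' := integralClosure A K
  let D := integralClosure A L
  let iA : A' →+* D :=
    { toFun := fun x ↦ ⟨algebraMap K L x.1, x.2.map (IsScalarTower.toAlgHom A K L)⟩
      map_one' := Subtype.ext (map_one _), map_mul' := fun _ _ ↦ Subtype.ext (map_mul _ _ _)
      map_zero' := Subtype.ext (map_zero _), map_add' := fun _ _ ↦ Subtype.ext (map_add _ _ _) }
  let iC : C →+* D :=
    { toFun := fun x ↦ ⟨algebraMap C L x, (Algebra.IsIntegral.isIntegral x).map (IsScalarTower.toAlgHom A C L)⟩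
      map_one' := Subtype.ext (map_one _), map_mul' := fun _ _ ↦ Subtype.ext (map_mul _ _ _)
      map_zero' := Subtype.ext (map_zero _), map_add' := fun _ _ ↦ Subtype.ext (map_add _ _ _) }
  let _ : Algebra A' D := iA.toAlgebra
  let _ : Algebra C D := iC.toAlgebra
  have t1 : IsScalarTower A A' D := IsScalarTower.of_algebraMap_eq fun a ↦
    Subtype.ext (IsScalarTower.algebraMap_apply A K L a)
  have t2 : IsScalarTower A C D := IsScalarTower.of_algebraMap_eq fun a ↦
    Subtype.ext (IsScalarTower.algebraMap_apply A C L a)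
  have : Algebra.IsIntegral A D := integralClosure.AlgebraIsIntegral
  have : Algebra.IsIntegral A' D := Algebra.IsIntegral.tower_top A
  have : Algebra.IsIntegral C D := Algebra.IsIntegral.tower_top A
  have : Algebra.IsIntegral A A' := integralClosure.AlgebraIsIntegral
  have hiA : Function.Injective (algebraMap A' D) := fun a b h ↦
    Subtype.ext ((algebraMap K L).injective (congrArg Subtype.val h))
  have hiC : Function.Injective (algebraMap C D) := fun a b h ↦
    IsFractionRing.injective C L (congrArg Subtype.val h)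
  have : IsIntegrallyClosed A' := integralClosure.isIntegrallyClosedOfFiniteExtension K
  have := isIntegrallyClosed_mvPolynomial A' σ
  have : FaithfulSMul (MvPolynomial σ A') (MvPolynomial σ D) :=
    (faithfulSMul_iff_algebraMap_injective _ _).mpr (MvPolynomial.map_injective _ hiA)
  have hCD : Function.Injective (algebraMap (MvPolynomial σ C) (MvPolynomial σ D)) :=
    MvPolynomial.map_injective _ hiC
  obtain ⟨Q', -, hQ'p, hQ'⟩ := Ideal.exists_ideal_over_prime_of_isIntegral (S := MvPolynomial σ D) Q (⊥ : Ideal (MvPolynomial σ D))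
    (fun z hz ↦ by
      rw [Ideal.mem_comap, Ideal.mem_bot] at hz
      rw [hCD (hz.trans (map_zero _).symm)]
      exact Q.zero_mem)
  have hmm : ∀ f : MvPolynomial σ A, MvPolynomial.map (algebraMap A' D) (MvPolynomial.map (algebraMap A A') f) =
      MvPolynomial.map (algebraMap C D) (MvPolynomial.map (algebraMap A C) f) := fun f ↦ by
    rw [MvPolynomial.map_map, MvPolynomial.map_map, ← IsScalarTower.algebraMap_eq, ← IsScalarTower.algebraMap_eq]
  let P := Q.comap (MvPolynomial.map (algebraMap A C))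
  let P' := Q'.comap (MvPolynomial.map (algebraMap A' D))
  have hP'P : P'.comap (MvPolynomial.map (algebraMap A A')) = P := by
    ext f
    simp only [P', P, Ideal.mem_comap, hmm, ← hQ']
    rfl
  have : P'.LiesOver P := ⟨hP'P.symm⟩
  have hAA' : Function.Injective (algebraMap (MvPolynomial σ A) (MvPolynomial σ A')) :=
    MvPolynomial.map_injective _ fun a b h ↦ IsFractionRing.injective A K (congrArg Subtype.val h)
  obtain ⟨p', -, hp'p, hp'⟩ := Ideal.exists_ideal_over_prime_of_isIntegral (S := MvPolynomial σ A') p (⊥ : Ideal (MvPolynomial σ A'))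
    (fun z hz ↦ by
      rw [Ideal.mem_comap, Ideal.mem_bot] at hz
      rw [hAA' (hz.trans (map_zero _).symm)]
      exact p.zero_mem)
  obtain ⟨P'', hle, hP''p, hP''⟩ := Ideal.exists_ideal_over_prime_of_isIntegral P p' (by rw [hp']; exact hp)
  have : P''.LiesOver P := ⟨hP''.symm⟩
  have heq : P'' = P' := unique_prime K y R hR σ P'' P' P hQy
  have hp'P : p' ≤ P' := heq ▸ hle
  have : Q'.LiesOver P' := ⟨rfl⟩
  obtain ⟨q₁, hq₁, hq₁p, hq₁l⟩ := Ideal.exists_ideal_le_liesOver_of_le (p := p') (q := P') Q' hp'P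
  refine ⟨q₁.comap (MvPolynomial.map (algebraMap C D)), inferInstance, ?_, ?_⟩
  · rw [← hQ']; exact Ideal.comap_mono hq₁
  · ext f
    rw [Ideal.mem_comap, Ideal.mem_comap, ← hmm, ← hp', Ideal.mem_comap]
    exact (SetLike.ext_iff.mp hq₁l.over _).symm

/-- Quasi-finite algebras over geometrically unibranch rings whose minimal primes lie over minimal
primes have going down after adjoining variables. -/
theorem exists_prime_le {A B : Type u} [CommRing A] [CommRing B] [Algebra A B] [Algebra.FiniteType A B]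
    [Algebra.QuasiFinite A B]
    (hgu : ∀ (y : Ideal A) [y.IsPrime], CAlg2.IsGeomUnibranch (Localization.AtPrime y))
    (hmin : ∀ q ∈ minimalPrimes B, q.comap (algebraMap A B) ∈ minimalPrimes A) (σ : Type u)
    (Q : Ideal (MvPolynomial σ B)) [Q.IsPrime] (p : Ideal (MvPolynomial σ A)) [p.IsPrime]
    (hp : p ≤ Q.comap (MvPolynomial.map (algebraMap A B))) :
    ∃ Q₁ : Ideal (MvPolynomial σ B), Q₁.IsPrime ∧ Q₁ ≤ Q ∧ Q₁.comap (MvPolynomial.map (algebraMap A B)) = p := by
  classical
  let q := Q.comap MvPolynomial.C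
  have : Algebra.QuasiFiniteAt A q := inferInstance
  obtain ⟨r, hrq, hr, hm⟩ := Algebra.zariskisMainProperty_iff.mp
    (Algebra.ZariskisMainProperty.of_finiteType (R := A) q)
  let Cs := integralClosure A B
  let r' : Cs := ⟨r, hr⟩
  have : Algebra.IsIntegral A Cs := integralClosure.AlgebraIsIntegral
  let qC := q.comap Cs.val.toRingHom
  obtain ⟨q₀, hq₀, hq₀le⟩ := Ideal.exists_minimalPrimes_le (bot_le : ⊥ ≤ qC)
  have hq₀p : q₀.IsPrime := hq₀.1.1
  let y := qC.comap (algebraMap A Cs)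
  obtain ⟨N, hNp, hNy, hN, R, _, _, hy', hloc, _, hR⟩ := exists_generic y (hgu y)
  have hq₀N : q₀.comap (algebraMap A Cs) = N := by
    refine le_antisymm ?_ (hN _ inferInstance (Ideal.comap_mono hq₀le))
    obtain ⟨qB, hqBp, -, hqB⟩ := Ideal.exists_comap_eq_of_mem_minimalPrimes (f := Cs.val.toRingHom) (I := ⊥) q₀ (by
      rwa [← RingHom.ker_eq_comap_bot, (RingHom.injective_iff_ker_eq_bot _).mp Subtype.val_injective])
    obtain ⟨qm, hqm, hqmle⟩ := Ideal.exists_minimalPrimes_le (bot_le : ⊥ ≤ qB)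
    have : qm.IsPrime := hqm.1.1
    have h1 : qm.comap Cs.val.toRingHom ≤ q₀ := hqB ▸ Ideal.comap_mono hqmle
    have h2 : qm.comap Cs.val.toRingHom = q₀ := le_antisymm h1 (hq₀.2 ⟨inferInstance, bot_le⟩ h1)
    have h3 := hmin qm hqm
    rw [← h2, Ideal.comap_comap]
    exact (show qm.comap (algebraMap A B) ≤ N from h3.2 ⟨hNp, bot_le⟩ (by
      refine hN _ inferInstance ?_
      have : qm.comap (algebraMap A B) = q₀.comap (algebraMap A Cs) := by rw [← h2, Ideal.comap_comap]; rfl
      rw [this]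
      exact Ideal.comap_mono hq₀le))
  let QC := Q.comap (MvPolynomial.map Cs.val.toRingHom)
  let Cb := Cs ⧸ q₀
  have : q₀.LiesOver N := ⟨hq₀N.symm⟩
  have hinjb : Function.Injective (algebraMap (A ⧸ N) Cb) := by
    refine (injective_iff_map_eq_zero _).mpr fun z hz ↦ ?_
    obtain ⟨a, rfl⟩ := Ideal.Quotient.mk_surjective z
    change Ideal.Quotient.mk q₀ (algebraMap A Cs a) = 0 at hz
    rw [Ideal.Quotient.eq_zero_iff_mem] at hz ⊢
    exact hq₀N.le hz
  let πC : MvPolynomial σ Cs →+* MvPolynomial σ Cb := MvPolynomial.map (Ideal.Quotient.mk q₀)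
  let πA : MvPolynomial σ A →+* MvPolynomial σ (A ⧸ N) := MvPolynomial.map (Ideal.Quotient.mk N)
  have hπC : Function.Surjective πC := MvPolynomial.map_surjective _ Ideal.Quotient.mk_surjective
  have hπA : Function.Surjective πA := MvPolynomial.map_surjective _ Ideal.Quotient.mk_surjective
  have hkC : RingHom.ker πC ≤ QC := by
    rw [MvPolynomial.ker_map, Ideal.mk_ker, Ideal.map_le_iff_le_comap]
    intro c hc
    have : c ∈ qC := hq₀le hc
    change MvPolynomial.map Cs.val.toRingHom (MvPolynomial.C c) ∈ Q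
    rw [MvPolynomial.map_C]
    exact this
  have hpA : ∀ a ∈ N, MvPolynomial.C a ∈ p := by
    intro a ha
    have hle : p.comap MvPolynomial.C ≤ y := fun x hx ↦ by
      have h := hp hx
      rw [Ideal.mem_comap, MvPolynomial.map_C] at h
      exact h
    exact hN _ inferInstance hle ha
  have hkA : RingHom.ker πA ≤ p := by
    rw [MvPolynomial.ker_map, Ideal.mk_ker, Ideal.map_le_iff_le_comap]
    exact hpA
  let Qb := QC.map πC
  have : Qb.IsPrime := Ideal.map_isPrime_of_surjective hπC hkC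
  let pb := p.map πA
  have : pb.IsPrime := Ideal.map_isPrime_of_surjective hπA hkA
  have hQb : Qb.comap πC = QC := by
    rw [Ideal.comap_map_of_surjective _ hπC, ← RingHom.ker_eq_comap_bot, sup_eq_left]; exact hkC
  have hpb : pb.comap πA = p := by
    rw [Ideal.comap_map_of_surjective _ hπA, ← RingHom.ker_eq_comap_bot, sup_eq_left]; exact hkA
  have hsq : ∀ f, MvPolynomial.map (algebraMap (A ⧸ N) Cb) (πA f) = πC (MvPolynomial.map (algebraMap A Cs) f) :=
    fun f ↦ by
      change MvPolynomial.map _ (MvPolynomial.map _ f) = MvPolynomial.map _ (MvPolynomial.map _ f)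
      rw [MvPolynomial.map_map, MvPolynomial.map_map]
      rfl
  have hval : ∀ f : MvPolynomial σ A, MvPolynomial.map Cs.val.toRingHom (MvPolynomial.map (algebraMap A Cs) f) =
      MvPolynomial.map (algebraMap A B) f := fun f ↦ by rw [MvPolynomial.map_map]; rfl
  have hPb : ∀ f, πA f ∈ Qb.comap (MvPolynomial.map (algebraMap (A ⧸ N) Cb)) ↔
      MvPolynomial.map (algebraMap A B) f ∈ Q := fun f ↦ by
    rw [Ideal.mem_comap, hsq, ← Ideal.mem_comap (f := πC), hQb, Ideal.mem_comap, hval]
  have hQy : (Qb.comap (MvPolynomial.map (algebraMap (A ⧸ N) Cb))).comap MvPolynomial.C =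
      y.map (Ideal.Quotient.mk N) := by
    ext z
    obtain ⟨a, rfl⟩ := Ideal.Quotient.mk_surjective z
    rw [Ideal.mem_comap, show MvPolynomial.C (Ideal.Quotient.mk N a) = πA (MvPolynomial.C a) from
      (MvPolynomial.map_C _ _).symm, hPb, Ideal.mem_quotient_iff_mem hNy, MvPolynomial.map_C]
    rfl
  have hpQ : pb ≤ Qb.comap (MvPolynomial.map (algebraMap (A ⧸ N) Cb)) :=
    Ideal.map_le_iff_le_comap.mpr fun f hf ↦ (hPb f).mpr (hp hf)
  obtain ⟨Q₁b, hQ₁bp, hQ₁bQ, hQ₁b⟩ := exists_prime_le_domain hinjb _ R hR σ Qb hQy pb hpQ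
  let Q₁C := Q₁b.comap πC
  have hQ₁C : Q₁C ≤ QC := hQb ▸ Ideal.comap_mono hQ₁bQ
  let ι : MvPolynomial σ Cs →+* MvPolynomial σ B := MvPolynomial.map Cs.val.toRingHom
  have hι : Function.Injective ι := MvPolynomial.map_injective _ Subtype.val_injective
  have hrQ : ι (MvPolynomial.C r') ∉ Q := fun h ↦ hrq (by
    simpa [ι, q, r', Ideal.mem_comap, MvPolynomial.map_C] using h)
  have hr₁ : MvPolynomial.C r' ∉ Q₁C := fun h ↦ hrQ (hQ₁C h)
  let s : MvPolynomial σ B := ι (MvPolynomial.C r')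
  have hs : ∀ b : MvPolynomial σ B, ∃ m c, ι c = s ^ m * b := by
    intro b
    induction b using MvPolynomial.induction_on with
    | C a =>
      obtain ⟨m, hm⟩ := hm a
      exact ⟨m, MvPolynomial.C ⟨r ^ m * a, hm⟩, by simp [s, ι, r', MvPolynomial.map_C]⟩
    | add x y hx hy =>
      obtain ⟨m, c, hc⟩ := hx
      obtain ⟨n, d, hd⟩ := hy
      exact ⟨m + n, MvPolynomial.C r' ^ n * c + MvPolynomial.C r' ^ m * d, by
        rw [map_add, map_mul, map_mul, map_pow, map_pow, hc, hd]; ring⟩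
    | mul_X x i hx =>
      obtain ⟨m, c, hc⟩ := hx
      exact ⟨m, c * MvPolynomial.X i, by
        rw [map_mul, hc, show ι (MvPolynomial.X i) = MvPolynomial.X i from MvPolynomial.map_X _ _]; ring⟩
  have hwd : ∀ b m c, ι c = s ^ m * b → c ∈ Q₁C → ∀ m' c', ι c' = s ^ m' * b → c' ∈ Q₁C := by
    intro b m c hc hcQ m' c' hc'
    have he : MvPolynomial.C r' ^ m * c' = MvPolynomial.C r' ^ m' * c := hι (by
      rw [map_mul, map_mul, map_pow, map_pow, hc, hc']; ring)
    have hmem : MvPolynomial.C r' ^ m * c' ∈ Q₁C := he ▸ Q₁C.mul_mem_left _ hcQ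
    exact ((inferInstance : Q₁C.IsPrime).mem_or_mem hmem).resolve_left fun h ↦
      hr₁ ((inferInstance : Q₁C.IsPrime).mem_of_pow_mem _ h)
  let Q₁ : Ideal (MvPolynomial σ B) :=
    { carrier := {b | ∃ m c, ι c = s ^ m * b ∧ c ∈ Q₁C}
      zero_mem' := ⟨0, 0, by simp, Q₁C.zero_mem⟩
      add_mem' := by
        rintro x y ⟨m, c, hc, hcQ⟩ ⟨n, d, hd, hdQ⟩
        exact ⟨m + n, MvPolynomial.C r' ^ n * c + MvPolynomial.C r' ^ m * d, by
          rw [map_add, map_mul, map_mul, map_pow, map_pow, hc, hd]; ring,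
          add_mem (Q₁C.mul_mem_left _ hcQ) (Q₁C.mul_mem_left _ hdQ)⟩
      smul_mem' := by
        rintro t x ⟨m, c, hc, hcQ⟩
        obtain ⟨n, d, hd⟩ := hs t
        exact ⟨n + m, d * c, by rw [map_mul, hc, hd, smul_eq_mul]; ring, Q₁C.mul_mem_left _ hcQ⟩ }
  have hQ₁ : ∀ b, b ∈ Q₁ ↔ ∃ m c, ι c = s ^ m * b ∧ c ∈ Q₁C := fun b ↦ Iff.rfl
  refine ⟨Q₁, ⟨?_, fun {a b} hab ↦ ?_⟩, fun b hb ↦ ?_, ?_⟩
  · intro htop
    have h1 : (1 : MvPolynomial σ B) ∈ Q₁ := htop ▸ Submodule.mem_top
    obtain ⟨m, c, hc, hcQ⟩ := (hQ₁ 1).mp h1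
    exact (inferInstance : Q₁C.IsPrime).ne_top ((Ideal.eq_top_iff_one _).mpr
      (hwd 1 m c hc hcQ 0 1 (by simp)))
  · obtain ⟨m, c, hc⟩ := hs a
    obtain ⟨n, d, hd⟩ := hs b
    obtain ⟨k, e, he, heQ⟩ := hab
    have := hwd (a * b) k e he heQ (m + n) (c * d) (by rw [map_mul, hc, hd]; ring)
    exact ((inferInstance : Q₁C.IsPrime).mem_or_mem this).imp (fun h ↦ ⟨m, c, hc, h⟩) (fun h ↦ ⟨n, d, hd, h⟩)
  · obtain ⟨m, c, hc, hcQ⟩ := hb
    have h1 : ι c ∈ Q := hQ₁C hcQ
    rw [hc] at h1
    exact ((inferInstance : Q.IsPrime).mem_or_mem h1).resolve_left fun h ↦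
      hrQ ((inferInstance : Q.IsPrime).mem_of_pow_mem _ h)
  · ext f
    have hkey : MvPolynomial.map (algebraMap A Cs) f ∈ Q₁C ↔ f ∈ p := by
      rw [Ideal.mem_comap, ← hsq, ← Ideal.mem_comap (f := MvPolynomial.map (algebraMap (A ⧸ N) Cb)), hQ₁b,
        ← Ideal.mem_comap (f := πA), hpb]
    rw [Ideal.mem_comap, hQ₁, ← hkey]
    refine ⟨fun ⟨m, c, hc, hcQ⟩ ↦ hwd _ m c hc hcQ 0 _ (by rw [pow_zero, one_mul]; exact hval f),
      fun h ↦ ⟨0, _, by rw [pow_zero, one_mul]; exact hval f, h⟩⟩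

end Groth.Agent.GUGoingDown
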