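/-
Invariance of geometric unibranchness under isomorphisms, without domain hypotheses (helper33).
-/
import Groth.Agent.GUGoingDown.Basic

set_option autoImplicit false
universe u

namespace Groth.Agent.GUGoingDown

open Groth.Agent.EtStruct

theorem isGeomUnibranch_of_red {R : Type u} [CommRing R] [IsLocalRing R]
    [IsLocalRing (CAlg2.red R)] [IsDomain (CAlg2.red R)] (h : CAlg2.IsGeomUnibranch (CAlg2.red R)) :
    CAlg2.IsGeomUnibranch R := by
  obtain ⟨hloc, hpi⟩ := (isGeomUnibranch_iff (CAlg2.red R) (FractionRing (CAlg2.red R))).mp h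
  refine ⟨⟨inferInstance, hloc⟩, fun m _ x ↦ ?_⟩
  have h' := hpi.map (g := (algebraMap (CAlg2.red R) (CAlg2.normRed R)).comp
    (Ideal.Quotient.mk (nilradical R))) (RingEquiv.refl _) (fun a ↦ by
      obtain ⟨a, rfl⟩ := Ideal.Quotient.mk_surjective a
      exact ⟨a, rfl⟩)
  obtain ⟨x, rfl⟩ := Ideal.Quotient.mk_surjective x
  obtain ⟨n, a, ha⟩ := h' m x
  exact ⟨n, a, ha⟩

theorem isGeomUnibranch_congr {A B : Type u} [CommRing A] [IsLocalRing A] [CommRing B] [IsLocalRing B]
    (e : A ≃+* B) (h : CAlg2.IsGeomUnibranch A) : CAlg2.IsGeomUnibranch B := by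
  have hdA : IsDomain (CAlg2.red A) := h.1.1
  have hmap : nilradical B = (nilradical A).map (e : A →+* B) := by
    refine le_antisymm (fun b hb ↦ ?_) (Ideal.map_le_iff_le_comap.mpr fun a ha ↦ (mem_nilradical.mp ha).map e)
    rw [← e.apply_symm_apply b]
    exact Ideal.mem_map_of_mem (e : A →+* B) (mem_nilradical.mpr ((mem_nilradical.mp hb).map e.symm))
  let ē : CAlg2.red A ≃+* CAlg2.red B := Ideal.quotientEquiv _ _ e hmap
  have hdB : IsDomain (CAlg2.red B) := ē.symm.toMulEquiv.isDomain_iff.mpr hdA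
  have : IsLocalRing (CAlg2.red A) :=
    IsLocalRing.of_surjective' (Ideal.Quotient.mk (nilradical A)) Ideal.Quotient.mk_surjective
  have : IsLocalRing (CAlg2.red B) :=
    IsLocalRing.of_surjective' (Ideal.Quotient.mk (nilradical B)) Ideal.Quotient.mk_surjective
  exact isGeomUnibranch_of_red (isGeomUnibranch_of_ringEquiv ē (isGeomUnibranch_red h))

end Groth.Agent.GUGoingDown
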